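import Cfsg.Agent.Base
import Cfsg.Agent.ClsK.Large2
import Cfsg.Agent.Spor.ConwayStab

/-!
# Groups of type `Co1`: the hypothesis and the concrete data in `Co1`
-/

set_option autoImplicit false

namespace CL.Co1R

open Cfsg Cfsg.Spor CL.ClsK CL.Leech Subgroup

/-- The working form of "`G` is of type `Co1`": `Q` is a large extraspecial subgroup of order `2⁹`
with central involution `z`, `|C(z)| = 2⁹ |Ω⁺(8,2)|`, and `z' ≠ z` is a conjugate of `z` in `Q`. -/
structure Hyp {G : Type*} [Group G] (Q : Subgroup G) (z z' : G) : Prop where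
  large : IsLarge Q z
  centre : ∀ c ∈ Q, (∀ b ∈ Q, c * b = b * c) → c = 1 ∨ c = z
  card_Q : Nat.card Q = 2 ^ 9
  card_C : Nat.card (centralizer ({z} : Set G)) = 2 ^ 9 * 174182400
  mem : z' ∈ Q
  ne : z' ≠ z
  conj : IsConj z z'

/-- The four-group `⟨z, z'⟩`. -/
abbrev four {G : Type*} [Group G] (z z' : G) : Subgroup G := closure {z, z'}

/-- First octad of the standard trio (tetrads `0`, `1` of the standard sextet `tet`). -/
def oct1 : Finset GolayPt := Finset.univ.filter fun i => tet i = 0 ∨ tet i = 1
/-- Second octad of the standard trio (tetrads `2`, `3`). -/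
def oct2 : Finset GolayPt := Finset.univ.filter fun i => tet i = 2 ∨ tet i = 3
/-- Third octad of the standard trio (tetrads `4`, `5`). -/
def oct3 : Finset GolayPt := Finset.univ.filter fun i => tet i = 4 ∨ tet i = 5

theorem oct1_mem : oct1 ∈ CodeSets := by
  simp only [oct1, mem_codeSets, mem_golay_iff_gens]; decide +kernel
theorem oct2_mem : oct2 ∈ CodeSets := by
  simp only [oct2, mem_codeSets, mem_golay_iff_gens]; decide +kernel
theorem oct3_mem : oct3 ∈ CodeSets := by
  simp only [oct3, mem_codeSets, mem_golay_iff_gens]; decide +kernel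

theorem card_oct1 : oct1.card = 8 := by decide +kernel
theorem card_oct2 : oct2.card = 8 := by decide +kernel
theorem card_oct3 : oct3.card = 8 := by decide +kernel

/-- The projection `Co0 → Co1`. -/
def pr : Co0 →* Co1 := QuotientGroup.mk' (center Co0)

theorem pr_surjective : Function.Surjective pr := QuotientGroup.mk'_surjective _

theorem pr_eq_one_iff {g : Co0} : pr g = 1 ↔ g = 1 ∨ g = negOne := by
  rw [← CL.Conway.mem_center_iff]; exact QuotientGroup.eq_one_iff g

/-- The sign change on the first octad. -/
def zh : Co0 := signCo0 oct1 oct1_mem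
/-- The sign change on the second octad. -/
def zh' : Co0 := signCo0 oct2 oct2_mem

/-- The standard `2`-central involution of `Co1`. -/
def z1 : Co1 := pr zh
/-- A second `2`-central involution of `Co1`, lying in `O₂(C(z1))`. -/
def z1' : Co1 := pr zh'

end CL.Co1R
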